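import Cfsg.Agent.Lib.SpectrumPowers.SympWitness
import Mathlib

/-! Eigenvalues of symplectic matrices: tools for adjacency in prime graphs of `PSp_{2n}(q)`. -/

set_option autoImplicit false
set_option maxHeartbeats 1000000

namespace CfsgLib.PSpGraph

open Matrix Polynomial

variable {F : Type*} [Field F] [Fintype F] {n : ℕ}

theorem card_eq_pow (F : Type*) [Field F] [Fintype F] (p : ℕ) [Fact p.Prime] [CharP F p] :
    ∃ a, 1 ≤ a ∧ Fintype.card F = p ^ a := by
  obtain ⟨a, -, ha⟩ := FiniteField.card F p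
  exact ⟨a, a.pos, ha⟩

theorem coprime_card {p r : ℕ} [Fact p.Prime] [CharP F p] (hr : r.Prime) (hrp : r ≠ p) :
    Nat.Coprime (Fintype.card F) r := by
  obtain ⟨a, -, ha⟩ := card_eq_pow F p
  rw [ha]
  exact ((Nat.coprime_primes Fact.out hr).2 (Ne.symm hrp)).pow_left a

/-- The eigenvalues of a symplectic matrix. -/
theorem exists_eigenvalues (hn : 0 < n) (p a : ℕ) [Fact p.Prime] [CharP F p]
    (hF : Fintype.card F = p ^ a) (Ω : Type*) [Field Ω] [DecidableEq Ω] [IsAlgClosed Ω] [Algebra F Ω]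
    [CharP Ω p] (A : Matrix.symplecticGroup (Fin n) F) :
    ∃ R : Finset Ω, R.card ≤ n + n ∧
      (∀ t ∈ R, t ^ orderOf A = 1 ∧ t ^ Fintype.card F ∈ R ∧ t⁻¹ ∈ R) ∧
      (∀ M : ℕ, 0 < M → (∀ t ∈ R, t ^ M = 1) → A ^ (p ^ Nat.clog p (n + n) * M) = 1) ∧
      (∀ M : ℕ, 0 < M → (∀ t ∈ R, t ^ M = 1) → R.card = n + n → A ^ M = 1) := by
  classical
  haveI : Nonempty (Fin n ⊕ Fin n) := ⟨Sum.inl ⟨0, hn⟩⟩
  set ι := algebraMap F Ω with hι
  set q := Fintype.card F with hq
  have hmapinj : Function.Injective fun M : Matrix (Fin n ⊕ Fin n) (Fin n ⊕ Fin n) F => M.map ι :=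
    Matrix.map_injective ι.injective
  set fr : Ω →+* Ω := iterateFrobenius Ω p a with hfr
  have hfrx : ∀ x : Ω, fr x = x ^ q := fun x => by rw [hfr, iterateFrobenius_def, hF]
  have hfrι : ∀ x : F, fr (ι x) = ι x := fun x => by rw [hfrx, ← map_pow, hq, FiniteField.pow_card]
  set Ab := A.1.map ι with hAb
  have hAo : Ab ^ orderOf A = 1 := by
    rw [hAb, ← Matrix.map_pow, ← SubmonoidClass.coe_pow, pow_orderOf_eq_one]
    exact Matrix.map_one ι (map_zero ι) (map_one ι)
  set R := Ab.charpoly.roots with hR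
  have hpow : ∀ t ∈ R, t ^ orderOf A = 1 := fun t ht => by
    rw [hR, mem_roots (Matrix.charpoly_monic _).ne_zero,
      ← Matrix.mem_spectrum_iff_isRoot_charpoly] at ht
    have h := spectrum.subset_polynomial_aeval Ab (X ^ orderOf A) ⟨t, ht, rfl⟩
    rw [map_pow, aeval_X, hAo, spectrum.one_eq, Set.mem_singleton_iff] at h
    simpa using h
  have hcard : Multiset.card R = n + n := by
    rw [hR, IsAlgClosed.card_roots_eq_natDegree, Matrix.charpoly_natDegree_eq_dim, Fintype.card_sum,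
      Fintype.card_fin]
  have hrotq : R.map fr = R := by
    have h := (IsAlgClosed.splits Ab.charpoly).roots_map fr
    rw [← Matrix.charpoly_map, show Ab.map fr = Ab by ext x y; exact hfrι _] at h
    exact h.symm
  have hne0 : (0 : Ω) ∉ R := fun h => by
    have := hpow 0 h
    rw [zero_pow (orderOf_pos A).ne'] at this
    exact zero_ne_one this
  have hroti : R.map (·⁻¹) = R := by
    rw [← CfsgLib.SpectrumPowers.roots_reverse_prod R hne0, hR,
      ← (IsAlgClosed.splits Ab.charpoly).eq_prod_roots_of_monic (Matrix.charpoly_monic _)]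
    congr 1
    ext k
    rw [coeff_reverse, Matrix.charpoly_natDegree_eq_dim, Fintype.card_sum, Fintype.card_fin]
    rcases le_or_gt k (n + n) with hk | hk
    · rw [revAt_le hk, hAb, Matrix.charpoly_map, coeff_map, coeff_map,
        ← CfsgLib.SemisimpleCount.charpoly_sym A hk]
    · rw [show revAt (n + n) k = k by
        show (if k ≤ n + n then n + n - k else k) = k
        rw [if_neg (by omega)]]
  have hbound : ∀ M e : ℕ, 0 < M → (∀ t ∈ R, t ^ M = 1 ∧ R.count t ≤ e) →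
      A ^ (p ^ Nat.clog p e * M) = 1 := fun M e hM h => by
    refine Subtype.ext (hmapinj ?_)
    show (A ^ _).1.map ι = (1 : Matrix (Fin n ⊕ Fin n) (Fin n ⊕ Fin n) F).map ι
    rw [SubmonoidClass.coe_pow, Matrix.map_pow, Matrix.map_one ι (map_zero ι) (map_one ι)]
    exact CfsgLib.SpectrumPowers.pow_eq_one_of_roots p Ab hM h
  refine ⟨R.toFinset, hcard ▸ R.toFinset_card_le, fun t ht => ?_, fun M hM h => ?_, fun M hM h hc => ?_⟩
  · rw [Multiset.mem_toFinset] at ht ⊢
    refine ⟨hpow t ht, ?_, ?_⟩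
    · rw [← hfrx]
      have := Multiset.mem_map_of_mem fr ht
      rwa [hrotq] at this
    · rw [Multiset.mem_toFinset]
      have := Multiset.mem_map_of_mem (fun x : Ω => x⁻¹) ht
      rwa [hroti] at this
  · exact hbound M (n + n) hM fun t ht => ⟨h t (Multiset.mem_toFinset.2 ht), hcard ▸ Multiset.count_le_card t R⟩
  · have hnd : R.Nodup := Multiset.toFinset_card_eq_card_iff_nodup.1 (by rw [hc, hcard])
    have := hbound M 1 hM fun t ht =>
      ⟨h t (Multiset.mem_toFinset.2 ht), Multiset.nodup_iff_count_le_one.1 hnd t⟩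
    rwa [Nat.clog_one_right, pow_zero, one_mul] at this

/-- A set of roots of unity closed under `t ↦ t^q` and inversion contains the orbit of each of its
members. -/
theorem orbit_bound {Ω : Type*} [Field Ω] {q N : ℕ} (hN : 0 < N) (hqN : Nat.Coprime q N) (R : Finset Ω)
    (hR : ∀ t ∈ R, t ^ q ∈ R ∧ t⁻¹ ∈ R) {t : Ω} (ht : t ∈ R) (hto : orderOf t = N) :
    orderOf (q : ZMod N) ≤ (R.filter fun u => orderOf u = N).card ∧
      ((∀ i : ℕ, (q : ZMod N) ^ i ≠ -1) →
        2 * orderOf (q : ZMod N) ≤ (R.filter fun u => orderOf u = N).card) := by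
  classical
  have hfin : IsOfFinOrder t := orderOf_pos_iff.1 (by omega)
  have hinj : ∀ a b : ℕ, t ^ a = t ^ b → (a : ZMod N) = b := fun a b h => by
    rw [hfin.pow_eq_pow_iff_modEq, hto] at h
    exact (ZMod.natCast_eq_natCast_iff _ _ _).2 h
  have hmem : ∀ i : ℕ, t ^ q ^ i ∈ R := by
    intro i
    induction i with
    | zero => simpa using ht
    | succ i ih => rw [pow_succ, pow_mul]; exact (hR _ ih).1
  have hord : ∀ i : ℕ, orderOf (t ^ q ^ i) = N := fun i => by
    rw [hfin.orderOf_pow, hto, Nat.Coprime.gcd_eq_one ((hqN.pow_left i).symm), Nat.div_one]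
  have hordi : ∀ i : ℕ, orderOf (t ^ q ^ i)⁻¹ = N := fun i => by
    rw [← hord i]
    refine orderOf_eq_orderOf_iff.2 fun m => ?_
    rw [inv_pow, inv_eq_one]
  set L := orderOf (q : ZMod N)
  have hsub1 : (Finset.range L).image (fun i => t ^ q ^ i) ⊆ R.filter fun u => orderOf u = N := by
    intro u hu
    obtain ⟨i, -, rfl⟩ := Finset.mem_image.1 hu
    exact Finset.mem_filter.2 ⟨hmem i, hord i⟩
  have hc1 : ((Finset.range L).image fun i => t ^ q ^ i).card = L := by
    rw [Finset.card_image_of_injOn, Finset.card_range]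
    intro x hx y hy hxy
    simp only [Finset.coe_range, Set.mem_Iio] at hx hy
    have := hinj _ _ hxy
    rw [Nat.cast_pow, Nat.cast_pow] at this
    exact pow_injOn_Iio_orderOf hx hy this
  refine ⟨by rw [← hc1]; exact Finset.card_le_card hsub1, fun hneg => ?_⟩
  have hsub2 : ((Finset.range L).image (fun i => t ^ q ^ i)).image (·⁻¹) ⊆
      R.filter fun u => orderOf u = N := by
    intro u hu
    obtain ⟨v, hv, rfl⟩ := Finset.mem_image.1 hu
    obtain ⟨i, -, rfl⟩ := Finset.mem_image.1 hv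
    exact Finset.mem_filter.2 ⟨(hR _ (hmem i)).2, hordi i⟩
  have hdis : Disjoint ((Finset.range L).image fun i => t ^ q ^ i)
      (((Finset.range L).image (fun i => t ^ q ^ i)).image (·⁻¹)) := by
    rw [Finset.disjoint_left]
    intro u hu hu'
    obtain ⟨i, -, rfl⟩ := Finset.mem_image.1 hu
    obtain ⟨v, hv, hv'⟩ := Finset.mem_image.1 hu'
    obtain ⟨j, hj, rfl⟩ := Finset.mem_image.1 hv
    have hj' := Finset.mem_range.1 hj
    have h1 : t ^ (q ^ i + q ^ j) = t ^ 0 := by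
      have hne : t ^ q ^ j ≠ 0 := fun h => by
        have := hord j
        rw [h, orderOf_zero] at this
        omega
      rw [pow_add, pow_zero, show t ^ q ^ i = (t ^ q ^ j)⁻¹ from hv'.symm, inv_mul_cancel₀ hne]
    have h2 := hinj _ _ h1
    rw [Nat.cast_add, Nat.cast_pow, Nat.cast_pow, Nat.cast_zero] at h2
    refine hneg (i + (L - j)) ?_
    rw [pow_add, eq_neg_of_add_eq_zero_left h2, neg_mul, ← pow_add,
      Nat.add_sub_cancel' hj'.le, pow_orderOf_eq_one]
  calc 2 * L = _ := by rw [Finset.card_union_of_disjoint hdis, Finset.card_image_of_injective _ inv_injective, hc1, two_mul]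
    _ ≤ _ := Finset.card_le_card (Finset.union_subset hsub1 hsub2)

/-- The number of eigenvalues of prime order. -/
theorem orbit_bound_prime {Ω : Type*} [Field Ω] {q r : ℕ} (hr : r.Prime) (hr2 : r ≠ 2)
    (hqr : Nat.Coprime q r) (R : Finset Ω) (hR : ∀ t ∈ R, t ^ q ∈ R ∧ t⁻¹ ∈ R) {t : Ω} (ht : t ∈ R)
    (hto : orderOf t = r) {k η : ℕ} (hk : k = orderOf (q : ZMod r))
    (hη : (Odd k ∧ η = k) ∨ (Even k ∧ 2 * η = k)) :
    2 * η ≤ (R.filter fun u => orderOf u = r).card := by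
  obtain ⟨h1, h2⟩ := orbit_bound hr.pos hqr R hR ht hto
  rw [← hk] at h1 h2
  rcases hη with ⟨hodd, rfl⟩ | ⟨-, he⟩
  · refine h2 fun i hi => ?_
    have h3 : (q : ZMod r) ^ (2 * i) = 1 := by rw [mul_comm, pow_mul, hi]; ring
    have h4 : η ∣ 2 * i := hk ▸ orderOf_dvd_of_pow_eq_one h3
    have h5 : η ∣ i := (Nat.coprime_two_right.2 hodd).dvd_of_dvd_mul_left h4
    have h6 : (q : ZMod r) ^ i = 1 := orderOf_dvd_iff_pow_eq_one.1 (hk ▸ h5)
    rw [h6] at hi
    haveI : Fact (2 < r) := ⟨lt_of_le_of_ne hr.two_le (Ne.symm hr2)⟩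
    exact ZMod.neg_one_ne_one hi.symm
  · omega

/-- A prime dividing the order of the symplectic group. -/
theorem eta_le {p r : ℕ} [Fact p.Prime] [CharP F p] (hr : r.Prime) (hrp : r ≠ p) (hr2 : r ≠ 2)
    (h : r ∣ Nat.card (Cfsg.PSp n F)) {k η : ℕ} (hk : k = orderOf ((Fintype.card F : ℕ) : ZMod r))
    (hη : (Odd k ∧ η = k) ∨ (Even k ∧ 2 * η = k)) : 0 < η ∧ η ≤ n := by
  have hcop := coprime_card (F := F) hr hrp
  haveI := Fact.mk hr
  have hu : ((Fintype.card F : ℕ) : ZMod r) ≠ 0 := fun h0 => by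
    rw [ZMod.natCast_eq_zero_iff] at h0
    exact hr.ne_one (Nat.eq_one_of_dvd_coprimes hcop.symm dvd_rfl h0)
  have hk0 : 0 < k := hk ▸ orderOf_pos_iff.2 (isOfFinOrder_iff_pow_eq_one.2
    ⟨r - 1, by have := hr.two_le; omega, ZMod.pow_card_sub_one_eq_one hu⟩)
  refine ⟨by rcases hη with ⟨-, h'⟩ | ⟨-, h'⟩ <;> omega, ?_⟩
  have h1 : r ∣ Nat.card (Matrix.symplecticGroup (Fin n) F) := h.trans
    (Subgroup.card_quotient_dvd_card _)
  clear h
  induction n with
  | zero =>
    rw [Nat.card_unique] at h1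
    exact absurd (Nat.dvd_one.1 h1) hr.ne_one
  | succ m ih =>
    rw [CfsgLib.SympBlocks.card_step] at h1
    rcases hr.dvd_mul.1 h1 with h2 | h2
    · rcases hr.dvd_mul.1 h2 with h3 | h3
      · have h4 : ((Fintype.card F : ℕ) : ZMod r) ^ (2 * (m + 1)) = 1 := by
          rw [← Nat.cast_pow, ← Nat.cast_one (R := ZMod r), ZMod.natCast_eq_natCast_iff]
          exact ((Nat.modEq_iff_dvd' (Nat.one_le_pow _ _ Fintype.card_pos)).2 h3).symm
        have h5 : k ∣ 2 * (m + 1) := hk ▸ orderOf_dvd_of_pow_eq_one h4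
        refine Nat.le_of_dvd (by omega) ?_
        rcases hη with ⟨ho, rfl⟩ | ⟨-, he⟩
        · exact (Nat.coprime_two_right.2 ho).dvd_of_dvd_mul_left h5
        · rw [← he] at h5
          exact (Nat.mul_dvd_mul_iff_left two_pos).1 h5
      · exact absurd (Nat.eq_one_of_dvd_coprimes hcop.symm dvd_rfl (hr.dvd_of_dvd_pow h3)) hr.ne_one
    · exact (ih h2).trans (Nat.le_succ m)

/-- A prime divides `q^η ± 1`. -/
theorem dvd_torus {q r : ℕ} (hr : r.Prime) (hq : 0 < q) {k η : ℕ} (hk : k = orderOf (q : ZMod r))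
    (hk0 : 0 < k) (hη : (Odd k ∧ η = k) ∨ (Even k ∧ 2 * η = k)) :
    (Odd k ∧ r ∣ q ^ η - 1) ∨ (Even k ∧ r ∣ q ^ η + 1) := by
  haveI := Fact.mk hr
  have h1 : (q : ZMod r) ^ k = 1 := hk ▸ pow_orderOf_eq_one _
  rcases hη with ⟨ho, rfl⟩ | ⟨he, he'⟩
  · refine Or.inl ⟨ho, ?_⟩
    rw [← ZMod.natCast_eq_zero_iff, Nat.cast_sub (Nat.one_le_pow _ _ hq), Nat.cast_pow, h1, Nat.cast_one,
      sub_self]
  · refine Or.inr ⟨he, ?_⟩
    rw [← ZMod.natCast_eq_zero_iff, Nat.cast_add, Nat.cast_pow, Nat.cast_one]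
    rw [← he', mul_comm, pow_mul] at h1
    rcases (sq_eq_one_iff).1 h1 with h | h
    · exfalso
      have := Nat.le_of_dvd (by omega) (hk ▸ orderOf_dvd_of_pow_eq_one h)
      omega
    · rw [h]; ring

/-- An element of `Sp_{2η}` of prescribed order. -/
theorem exists_torus_order (p : ℕ) [Fact p.Prime] [CharP F p] {η N : ℕ} (hη : 0 < η) (hN : 0 < N)
    (h : N ∣ Fintype.card F ^ η + 1 ∨ N ∣ Fintype.card F ^ η - 1) :
    ∃ g : Matrix.symplecticGroup (Fin η) F, orderOf g = N := by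
  obtain ⟨a, ha, hF⟩ := card_eq_pow F p
  obtain ⟨g, hg⟩ := CfsgLib.SpectrumPowers.exists_torus p a hF ha hη hN h
  exact ⟨g ^ (orderOf g / N), orderOf_pow_orderOf_div (orderOf_pos g).ne' hg⟩

theorem mk_injective (p : ℕ) [CharP F p] (hp : p = 2) (hn : 0 < n) :
    Function.Injective (QuotientGroup.mk' (Subgroup.center (Matrix.symplecticGroup (Fin n) F))) := by
  subst hp
  rw [← MonoidHom.ker_eq_bot_iff, QuotientGroup.ker_mk', Subgroup.eq_bot_iff_forall]
  intro g hg
  obtain ⟨t, ht, ht2⟩ := (CfsgLib.SpectrumPowers.mk_eq_one_iff_Sp hn g).1 ((QuotientGroup.eq_one_iff g).2 hg)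
  have : t = 1 := by
    rcases sq_eq_one_iff.1 ht2 with h | h
    · exact h
    · rw [h, CharTwo.neg_eq]
  exact Subtype.ext (by rw [ht, this, map_one]; rfl)

/-- Lifting elements of odd order, and all elements in characteristic two. -/
theorem exists_lift (p : ℕ) [CharP F p] (hn : 0 < n) {N : ℕ} (hN : Odd N ∨ p = 2) (g : Cfsg.PSp n F)
    (hg : orderOf g = N) : ∃ A : Matrix.symplecticGroup (Fin n) F, orderOf A = N := by
  obtain ⟨z, rfl⟩ := QuotientGroup.mk'_surjective _ g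
  rcases hN with hN | hp
  · refine ⟨z ^ (orderOf z / N), orderOf_pow_orderOf_div (orderOf_pos z).ne' ?_⟩
    rw [← hg]
    exact orderOf_map_dvd _ z
  · exact ⟨z, by rw [← hg]; exact (orderOf_injective _ (mk_injective p hp hn) z).symm⟩

/-- An element of `Sp` of odd order, or any in characteristic two, gives one of the same order in `PSp`. -/
theorem exists_proj (p : ℕ) [CharP F p] (hn : 0 < n) {N : ℕ} (hN : Odd N ∨ p = 2)
    (g : Matrix.symplecticGroup (Fin n) F) (hg : orderOf g = N) :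
    N ∈ Set.range (orderOf : Cfsg.PSp n F → ℕ) := by
  refine ⟨QuotientGroup.mk g, ?_⟩
  rcases hN with hN | hp
  · refine Nat.dvd_antisymm ?_ (CfsgLib.SpectrumPowers.odd_dvd_orderOf_mk hn g hN hg.symm.dvd)
    rw [← hg]
    exact orderOf_map_dvd (QuotientGroup.mk' _) g
  · rw [← hg]
    exact orderOf_injective _ (mk_injective p hp hn) g

/-- Two commuting blocks. -/
theorem exists_pair {a b c N M : ℕ} (h : a + (b + c) = n) (hco : Nat.Coprime N M)
    (x : Matrix.symplecticGroup (Fin a) F) (hx : orderOf x = N)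
    (y : Matrix.symplecticGroup (Fin b) F) (hy : orderOf y = M) :
    ∃ g : Matrix.symplecticGroup (Fin n) F, orderOf g = N * M := by
  subst h
  refine ⟨CfsgLib.SympBlocks.Φ a (b + c) (x, CfsgLib.SympBlocks.Φ b c (y, 1)), ?_⟩
  rw [orderOf_injective _ CfsgLib.SympBlocks.Φ_injective, Prod.orderOf,
    orderOf_injective _ CfsgLib.SympBlocks.Φ_injective, Prod.orderOf, orderOf_one, Nat.lcm_one_right,
    hx, hy]
  exact hco.lcm_eq_mul

/-- An element of order `p`: a transvection. -/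
theorem exists_order_char (p : ℕ) [hp : Fact p.Prime] [CharP F p] (hn : 0 < n) :
    ∃ g : Matrix.symplecticGroup (Fin n) F, orderOf g = p := by
  refine exists_prime_orderOf_dvd_card' p ?_
  obtain ⟨m, rfl⟩ : ∃ m, n = m + 1 := ⟨n - 1, by omega⟩
  rw [CfsgLib.SympBlocks.card_step]
  obtain ⟨a, ha, hF⟩ := card_eq_pow F p
  refine Dvd.dvd.mul_right (Dvd.dvd.mul_left ?_ _) _
  rw [hF, ← pow_mul]
  exact dvd_pow_self p (Nat.mul_ne_zero (by omega) (by omega))

end CfsgLib.PSpGraph
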